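import Mathlib
import Cfsg.Agent.Lib.Transfer.Fusion

/-!
# Values of lower central words and coprime action

`Val k` is the set of values of the left-normed commutator word of length `k + 1`, and `CondK k`
says that a value centralises every subgroup of coprime order which it normalises.
-/

set_option autoImplicit false
set_option linter.style.haveILetI false

open Subgroup
open scoped commutatorElement

namespace CfsgLib.FgsC.GammaValues

variable {G H : Type*} [Group G] [Group H]

/-- The values of the left-normed commutator word of length `k + 1`. -/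
def Val : ℕ → G → Prop
  | 0, _ => True
  | n + 1, x => ∃ a b : G, Val n a ∧ x = ⁅a, b⁆

/-- Iterated commutator `[a, y, …, y]`. -/
def it (y a : G) : ℕ → G
  | 0 => a
  | n + 1 => ⁅it y a n, y⁆

theorem map_it (f : G →* H) (y a : G) : ∀ n, f (it y a n) = it (f y) (f a) n
  | 0 => rfl
  | n + 1 => by rw [it, it, map_commutatorElement, map_it f y a n]

theorem val_it (y a : G) : ∀ n, Val n (it y a n)
  | 0 => trivial
  | n + 1 => ⟨_, y, val_it y a n, rfl⟩

theorem val_it_pred (y a : G) : ∀ k, Val k (it y a (k - 1 + 1))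
  | 0 => trivial
  | k + 1 => by simpa using val_it y a (k + 1)

theorem it_mem {X : Subgroup G} {y a : G} (hn : ∀ x ∈ X, y * x * y⁻¹ ∈ X) (ha : a ∈ X) :
    ∀ n, it y a n ∈ X
  | 0 => ha
  | n + 1 => by
    have h := it_mem hn ha n
    have e : it y a (n + 1) = it y a n * (y * (it y a n)⁻¹ * y⁻¹) := by
      rw [it, commutatorElement_def]; group
    rw [e]
    exact mul_mem h (hn _ (inv_mem h))

theorem val_map (f : G →* H) : ∀ (n : ℕ) (x : G), Val n x → Val n (f x)
  | 0, _, _ => trivial
  | n + 1, _, ⟨a, b, ha, e⟩ => ⟨f a, f b, val_map f n a ha, by rw [e, map_commutatorElement]⟩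

theorem val_lift (f : G →* H) (hf : Function.Surjective f) :
    ∀ (n : ℕ) (x : H), Val n x → ∃ y : G, Val n y ∧ f y = x
  | 0, x, _ => ⟨(hf x).choose, trivial, (hf x).choose_spec⟩
  | n + 1, _, ⟨a, b, ha, e⟩ => by
    obtain ⟨a', ha', rfl⟩ := val_lift f hf n a ha
    obtain ⟨b', rfl⟩ := hf b
    exact ⟨⁅a', b'⁆, ⟨a', b', ha', rfl⟩, by rw [e, map_commutatorElement]⟩

theorem val_mem_lcs : ∀ (n : ℕ) (x : G), Val n x → x ∈ (⊤ : Subgroup G).lowerCentralSeries n
  | 0, _, _ => mem_top _
  | n + 1, _, ⟨a, b, ha, e⟩ => by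
    rw [e, Subgroup.lowerCentralSeries_succ]
    exact commutator_mem_commutator (val_mem_lcs n a ha) (mem_top b)

theorem lcs_le_closure_val : ∀ n : ℕ,
    (⊤ : Subgroup G).lowerCentralSeries n ≤ closure {x : G | Val n x}
  | 0 => fun x _ => subset_closure (show Val 0 x from trivial)
  | n + 1 => by
    haveI : (closure {x : G | Val (n + 1) x}).Normal := ⟨fun x hx g => by
      have hle : closure {x : G | Val (n + 1) x} ≤
          (closure {x : G | Val (n + 1) x}).comap (MulAut.conj g).toMonoidHom :=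
        (closure_le _).2 fun y hy => subset_closure (val_map _ _ y hy)
      exact hle hx⟩
    set W := closure {x : G | Val (n + 1) x} with hW
    rw [Subgroup.lowerCentralSeries_succ, commutator_le]
    intro a ha b _
    have hc : closure {x : G | Val n x} ≤ (center (G ⧸ W)).comap (QuotientGroup.mk' W) := by
      rw [closure_le]
      intro c hc
      rw [SetLike.mem_coe, mem_comap, mem_center_iff]
      intro d
      obtain ⟨d, rfl⟩ := QuotientGroup.mk'_surjective W d
      symm
      rw [← commutatorElement_eq_one_iff_mul_comm, ← map_commutatorElement,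
        QuotientGroup.mk'_apply, QuotientGroup.eq_one_iff]
      exact subset_closure ⟨c, d, hc, rfl⟩
    have h := mem_center_iff.1 (hc (lcs_le_closure_val n ha)) (QuotientGroup.mk' W b)
    rw [← QuotientGroup.eq_one_iff, ← QuotientGroup.mk'_apply, map_commutatorElement,
      commutatorElement_eq_one_iff_mul_comm]
    exact h.symm

theorem lcs_eq_bot_of_val {k : ℕ} (h : ∀ x : G, Val k x → x = 1) :
    (⊤ : Subgroup G).lowerCentralSeries k = ⊥ :=
  le_bot_iff.1 ((lcs_le_closure_val k).trans ((closure_le _).2 fun x hx => mem_bot.2 (h x hx)))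

theorem map_lcs (f : G →* H) (hf : Function.Surjective f) (k : ℕ) :
    ((⊤ : Subgroup G).lowerCentralSeries k).map f = (⊤ : Subgroup H).lowerCentralSeries k := by
  rw [map_lowerCentralSeries, map_top_of_surjective f hf]

/-- The descending step: `[c, y]` commuting with `y` in a coprime situation is trivial. -/
theorem eq_one_of_commute {y c : G} (hco : (orderOf ⁅c, y⁆).Coprime (orderOf y))
    (hy : orderOf y ≠ 0) (hc : Commute ⁅c, y⁆ y) : ⁅c, y⁆ = 1 := by
  have e : ⁅c, y⁆ * y = MulAut.conj c y := by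
    rw [commutatorElement_def, MulAut.conj_apply]; group
  have h := hc.orderOf_mul_eq_mul_orderOf_of_coprime hco
  rw [e, MulEquiv.orderOf_eq] at h
  exact orderOf_eq_one_iff.1 ((mul_eq_right₀ hy).1 h.symm)

theorem commute_of_it [Finite G] {X : Subgroup G} {y a : G} (hn : ∀ x ∈ X, y * x * y⁻¹ ∈ X)
    (hco : (Nat.card X).Coprime (orderOf y)) (ha : a ∈ X) :
    ∀ n, it y a (n + 1) = 1 → Commute a y
  | 0, h => commutatorElement_eq_one_iff_mul_comm.1 h
  | n + 1, h => commute_of_it hn hco ha n <| eq_one_of_commute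
      (hco.of_dvd_left (orderOf_dvd_natCard X (it_mem hn ha (n + 1))))
      (orderOf_pos y).ne' (commutatorElement_eq_one_iff_mul_comm.1 h)

/-- A value centralises every subgroup of coprime order which it normalises. -/
def CondK (k : ℕ) (G : Type*) [Group G] : Prop :=
  ∀ y : G, Val k y → ∀ X : Subgroup G, (∀ x ∈ X, y * x * y⁻¹ ∈ X) →
    (Nat.card X).Coprime (orderOf y) → ∀ x ∈ X, Commute x y

theorem CondK.subgroup {k : ℕ} (h : CondK k G) (D : Subgroup G) : CondK k D := by
  intro y hy X hn hco x hx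
  have := h y (val_map D.subtype k y hy) (X.map D.subtype) ?_
    (by rwa [card_map_of_injective D.subtype_injective, Subgroup.orderOf_coe])
    x ⟨x, hx, rfl⟩
  · exact Subtype.ext this.eq
  · rintro _ ⟨z, hz, rfl⟩
    exact ⟨y * z * y⁻¹, hn z hz, by simp⟩

/-- The condition on orders of products forces `CondK`. -/
theorem condK_of_orders [Finite G] {k : ℕ}
    (h : ∀ x y : G, Val k x → Val k y → (orderOf x).Coprime (orderOf y) →
      (∀ r : ℕ, r.Prime → r ∣ orderOf x * orderOf y → r ∣ orderOf (x * y)) ∨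
        orderOf x * orderOf y ≤ orderOf (x * y)) : CondK k G := by
  intro y hy X hn hco a ha
  refine commute_of_it hn hco ha (k - 1) ?_
  have hcox := hco.of_dvd_left (orderOf_dvd_natCard X (it_mem hn ha (k - 1 + 1)))
  have e : it y a (k - 1 + 1) * y = MulAut.conj (it y a (k - 1)) y := by
    rw [it, commutatorElement_def, MulAut.conj_apply]; group
  have horder : orderOf (it y a (k - 1 + 1) * y) = orderOf y := by
    rw [e, MulEquiv.orderOf_eq]
  rcases h _ y (val_it_pred y a k) hy hcox with h1 | h2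
  · by_contra hne
    obtain ⟨r, hr, hrd⟩ := Nat.exists_prime_and_dvd (mt orderOf_eq_one_iff.1 hne)
    have := h1 r hr (hrd.mul_right _)
    rw [horder] at this
    exact hr.ne_one (Nat.eq_one_of_dvd_coprimes hcox hrd this)
  · rw [horder] at h2
    have h3 : orderOf (it y a (k - 1 + 1)) ≤ 1 :=
      Nat.le_of_mul_le_mul_right (by rw [one_mul]; exact h2) (orderOf_pos y)
    exact orderOf_eq_one_iff.1 (le_antisymm h3 (orderOf_pos _))

/-- Replace a lift by one of order prime to `q`. -/
theorem exists_pow_coprime [Finite G] (f : G →* H) {x : G} {q : ℕ} [hq : Fact q.Prime]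
    (hx : (orderOf (f x)).Coprime q) :
    ∃ e : ℕ, f (x ^ e) = f x ∧ (orderOf (x ^ e)).Coprime q := by
  obtain ⟨e, he1, he2⟩ := Nat.chineseRemainder (n := orderOf (f x))
    (m := q ^ (orderOf x).factorization q) (hx.pow_right _) 1 0
  refine ⟨e, ?_, ?_⟩
  · conv_rhs => rw [← pow_one (f x)]
    rw [map_pow, pow_eq_pow_iff_modEq]
    exact he1
  · refine Nat.Coprime.of_dvd_left (b := q) ?_
      (Nat.coprime_ordCompl hq.out (orderOf_pos x).ne').symm
    rw [orderOf_dvd_iff_pow_eq_one, ← pow_mul, ← orderOf_dvd_iff_pow_eq_one]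
    conv_lhs => rw [← Nat.ordProj_mul_ordCompl_eq_self (orderOf x) q]
    exact mul_dvd_mul_right (Nat.modEq_zero_iff_dvd.1 he2) _

/-- `p`-subgroups and the `p'`-elements normalising them lift through surjections. -/
theorem exists_lift [Finite G] (f : G →* H) (hf : Function.Surjective f) {q : ℕ}
    [hq : Fact q.Prime] {Q : Subgroup H} (hQ : IsPGroup q Q) :
    ∃ P : Subgroup G, IsPGroup q P ∧ P.map f = Q ∧
      ∀ g ∈ normalizer (Q : Set H), ∃ g' ∈ normalizer (P : Set G), f g' = g := by
  haveI : Finite H := Finite.of_surjective f hf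
  set K := Q.comap f with hK
  let S : Sylow q K := default
  set P := (S : Subgroup K).map K.subtype with hP
  have hPp : IsPGroup q P := S.isPGroup'.map _
  have hPK : P ≤ K := map_subtype_le _
  have hmax : ¬ q ∣ P.relIndex K := by
    have : P.subgroupOf K = (S : Subgroup K) := by
      rw [hP, subgroupOf, comap_map_eq_self_of_injective K.subtype_injective]
    rw [relIndex, this]
    exact S.not_dvd_index
  have hPQ : P.map f = Q := by
    refine le_antisymm (map_le_iff_le_comap.2 hPK) ?_
    let φ : K →* Q := (f.comp K.subtype).codRestrict Q fun x => x.2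
    have hφ : Function.Surjective φ := fun w => by
      obtain ⟨v, hv⟩ := hf w
      exact ⟨⟨v, show f v ∈ Q from hv.symm ▸ w.2⟩, Subtype.ext hv⟩
    intro w hw
    have hT : (S.mapSurjective hφ : Subgroup Q) = ⊤ :=
      (IsPGroup.to_subgroup hQ ⊤).le_sylow_of_normal (S.mapSurjective hφ) |> top_le_iff.1
    have : (⟨w, hw⟩ : Q) ∈ (S.mapSurjective hφ : Subgroup Q) := hT ▸ mem_top _
    rw [Sylow.coe_mapSurjective] at this
    obtain ⟨v, hv, hvw⟩ := this
    exact ⟨v, ⟨v, hv, rfl⟩, congrArg Subtype.val hvw⟩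
  refine ⟨P, hPp, hPQ, fun g hg => ?_⟩
  obtain ⟨g0, rfl⟩ := hf g
  have hV : P.map (MulAut.conj g0).toMonoidHom ≤ K := by
    rintro _ ⟨v, hv, rfl⟩
    show f (g0 * v * g0⁻¹) ∈ Q
    rw [map_mul, map_mul, map_inv]
    exact (mem_normalizer_iff.1 hg _).1 (hPK hv)
  obtain ⟨c, hcK, hc⟩ := CfsgLib.Transfer.exists_conj_le_of_isPGroup hPp hPK hmax
    (hPp.map (MulAut.conj g0).toMonoidHom) hV
  obtain ⟨u, hu, huc⟩ : ∃ u ∈ P, f u = f c :=
    mem_map.1 (show f c ∈ P.map f from hPQ.symm ▸ hcK)
  set g2 := u * c⁻¹ * g0 with hg2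
  have hg2n : ∀ x ∈ P, g2 * x * g2⁻¹ ∈ P := fun x hx => by
    have e : g2 * x * g2⁻¹ = u * (c⁻¹ * (g0 * x * g0⁻¹) * c) * u⁻¹ := by rw [hg2]; group
    rw [e]
    exact mul_mem (mul_mem hu (hc _ ⟨x, hx, rfl⟩)) (inv_mem hu)
  have hg2f : f g2 = f g0 := by
    rw [hg2, map_mul, map_mul, map_inv, huc, mul_inv_cancel, one_mul]
  refine ⟨g2, ?_, hg2f⟩
  rw [mem_normalizer_iff]
  intro x
  refine ⟨hg2n x, fun hx => ?_⟩
  have hmap : P.map (MulAut.conj g2).toMonoidHom = P := by
    refine Subgroup.eq_of_le_of_card_ge ?_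
      (card_map_of_injective (MulAut.conj g2).injective).ge
    rintro _ ⟨v, hv, rfl⟩
    exact hg2n v hv
  obtain ⟨v, hv, hvx⟩ := mem_map.1 (hmap.symm ▸ hx : g2 * x * g2⁻¹ ∈
    P.map (MulAut.conj g2).toMonoidHom)
  rwa [← (MulAut.conj g2).injective (hvx : MulAut.conj g2 v = MulAut.conj g2 x)]

/-- A lift of a `q'`-element normalising a lifted subgroup, of order prime to `q`. -/
theorem exists_lift_coprime [Finite G] (f : G →* H) {q : ℕ} [Fact q.Prime] {P : Subgroup G}
    {g : H} (hg : ∃ g' ∈ normalizer (P : Set G), f g' = g) (hgo : (orderOf g).Coprime q) :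
    ∃ g' : G, (∀ x ∈ P, g' * x * g'⁻¹ ∈ P) ∧ (orderOf g').Coprime q ∧ f g' = g := by
  obtain ⟨g', hg', rfl⟩ := hg
  obtain ⟨e, he, heo⟩ := exists_pow_coprime f hgo
  exact ⟨g' ^ e, fun x hx => (mem_normalizer_iff.1 (pow_mem hg' e) x).1 hx, heo, he⟩

end CfsgLib.FgsC.GammaValues
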