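import Cfsg.Agent.Lib.FgsC.GammaValues.Solvable
import Cfsg.Agent.Lib.FgsB.OddInverted
import Cfsg.Agent.Lib.Involutions.Isolated
import Cfsg.Agent.Lib.Involutions.ZStar.Main
import Cfsg.Agent.Lib.FT.OddOrderTheorem
import Cfsg.Agent.Lib.Base.HallConverse
import Cfsg.Agent.Lib.CNGroups.Basic
import Cfsg.Agent.Lib.Transfer.Control

/-!
# The criterion for a nilpotent lower central term
-/

set_option autoImplicit false
set_option linter.style.haveILetI false

open Subgroup
open scoped commutatorElement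

universe u

namespace CfsgLib.FgsC.GammaValues

variable {k : ℕ} {G : Type u} [Group G] [Finite G]

/-- In a nonabelian simple group some element of odd order moves an involution of an
elementary abelian `2`-subgroup which it normalises. -/
theorem exists_moved_involution [IsSimpleGroup G] (hns : ¬ Group.IsSolvable G) :
    ∃ (E : Subgroup G) (g e : G), IsPGroup 2 E ∧ (∀ a ∈ E, a * a = 1) ∧
      g ∈ normalizer (E : Set G) ∧ (orderOf g).Coprime 2 ∧ e ∈ E ∧ ¬ Commute e g := by
  haveI : Fact (Nat.Prime 2) := ⟨Nat.prime_two⟩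
  by_contra hcon
  push Not at hcon
  obtain ⟨P⟩ := (inferInstance : Nonempty (Sylow 2 G))
  have h2 : 2 ∣ Nat.card G := by
    by_contra h
    exact hns (CfsgLib.FT.isSolvable_of_odd (Nat.odd_iff.2 (Nat.two_dvd_ne_zero.1 h)))
  have hP1 : (P : Subgroup G) ≠ ⊥ := fun e => by
    have := P.dvd_card_of_dvd_card h2
    rw [e, card_bot] at this
    norm_num at this
  haveI : Nontrivial (P : Subgroup G) := (Subgroup.nontrivial_iff_ne_bot _).2 hP1
  obtain ⟨m, hm⟩ := (P.isPGroup'.to_subgroup (center (P : Subgroup G))).exists_card_eq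
  haveI := P.isPGroup'.center_nontrivial
  have hm2 : 2 ∣ Nat.card (center (P : Subgroup G)) := by
    rw [hm]
    refine dvd_pow_self 2 fun h0 => ?_
    have : 1 < Nat.card (center (P : Subgroup G)) := Finite.one_lt_card
    rw [hm, h0, pow_zero] at this
    exact this.false
  obtain ⟨z0, hz0⟩ := exists_prime_orderOf_dvd_card' 2 hm2
  set z : G := ((z0 : (P : Subgroup G)) : G) with hz
  have hzo : orderOf z = 2 := by rw [hz, Subgroup.orderOf_coe, Subgroup.orderOf_coe, hz0]
  have hzz : z * z = 1 := by rw [← pow_two, ← hzo, pow_orderOf_eq_one]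
  have hzc : ∀ w ∈ (P : Subgroup G), w * z = z * w := fun w hw =>
    congrArg Subtype.val (mem_center_iff.1 z0.2 ⟨w, hw⟩)
  -- no local conjugation moves `z`
  have key : ∀ (A : Set G) (g : G), CfsgLib.Transfer.FusionChain P A g → z ∈ A →
      g⁻¹ * z * g = z := by
    intro A g hc
    induction hc with
    | nil A => exact fun _ => by simp
    | @cons A g Q x hxN hP hQ hA _ ih =>
      intro hzA
      set D : Subgroup G := (P : Subgroup G) ⊓ (Q : Subgroup G) with hD
      let N : Subgroup G := normalizer (D : Set G)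
      have hDp : IsPGroup 2 D := P.isPGroup'.to_le inf_le_left
      let E : Subgroup G :=
        { carrier := {a | a ∈ D ∧ a * a = 1 ∧ ∀ d ∈ D, Commute a d}
          one_mem' := ⟨one_mem D, one_mul 1, fun d _ => Commute.one_left d⟩
          mul_mem' := fun {a b} ha hb => ⟨mul_mem ha.1 hb.1, by
            rw [(ha.2.2 b hb.1).symm.mul_mul_mul_comm, ha.2.1, hb.2.1, one_mul],
            fun d hd => (ha.2.2 d hd).mul_left (hb.2.2 d hd)⟩
          inv_mem' := fun {a} ha => ⟨inv_mem ha.1, by rw [← mul_inv_rev, ha.2.1, inv_one],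
            fun d hd => (ha.2.2 d hd).inv_left⟩ }
      have hEN : ∀ n ∈ N, ∀ a ∈ E, n * a * n⁻¹ ∈ E := by
        rintro n hn a ⟨ha1, ha2, ha3⟩
        refine ⟨(mem_normalizer_iff.1 hn a).1 ha1, ?_, fun d hd => ?_⟩
        · calc n * a * n⁻¹ * (n * a * n⁻¹) = n * (a * a) * n⁻¹ := by group
            _ = 1 := by rw [ha2, mul_one, mul_inv_cancel]
        · have hd' : n⁻¹ * d * n ∈ D := (mem_normalizer_iff''.1 hn d).1 hd
          have := (ha3 _ hd').map (MulAut.conj n)
          simpa [mul_assoc] using this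
      have hNE : N ≤ normalizer (E : Set G) := fun n hn => by
        rw [mem_normalizer_iff]
        refine fun a => ⟨hEN n hn a, fun ha => ?_⟩
        have := hEN n⁻¹ (inv_mem hn) _ ha
        simpa [mul_assoc] using this
      let S : Sylow 2 N :=
        ((P.2.to_le (inf_le_left : (P : Subgroup G) ⊓ N ≤ _)).comap_subtype (K := N)).toSylow hP
      have hmem : (⟨x, hxN⟩ : N) ∈ (S : Subgroup N) ⊔ Cfsg.pResidual 2 N := by
        rw [CfsgLib.Transfer.sup_pResidual_eq_top]
        exact mem_top _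
      have := CfsgLib.Transfer.pResidual_normal (G := N) (p := 2)
      obtain ⟨u, hu, c, hc, huc⟩ := mem_sup_of_normal_right.mp hmem
      have hzD : z ∈ D := hA hzA
      have hzE : z ∈ E := ⟨hzD, hzz, fun d hd => (hzc d hd.1).symm⟩
      have hcC : (c : G) ∈ centralizer ({z} : Set G) := by
        have hle : Cfsg.pResidual 2 N ≤ (centralizer ({z} : Set G)).subgroupOf N := by
          refine (closure_le _).mpr fun n hn => ?_
          rw [SetLike.mem_coe, mem_subgroupOf, mem_centralizer_singleton_iff]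
          exact (hcon E n z (hDp.to_le fun a ha => ha.1) (fun a ha => ha.2.1) (hNE n.2)
            (by rw [Subgroup.orderOf_coe]; exact hn) hzE).eq.symm
        exact mem_subgroupOf.mp (hle hc)
      rw [mem_centralizer_singleton_iff] at hcC
      have huP : (u : G) ∈ (P : Subgroup G) := (mem_subgroupOf.mp hu).1
      have hxe : x = (u : G) * (c : G) := by
        rw [← Subgroup.coe_mul, huc]
      have hfix : x⁻¹ * z * x = z := by
        calc x⁻¹ * z * x = (c : G)⁻¹ * ((u : G)⁻¹ * (z * u)) * c := by rw [hxe]; group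
          _ = (c : G)⁻¹ * (z * c) := by rw [← hzc _ huP, inv_mul_cancel_left, mul_assoc]
          _ = z := by rw [← hcC, inv_mul_cancel_left]
      have := ih ⟨z, hzA, hfix⟩
      calc (x * g)⁻¹ * z * (x * g) = g⁻¹ * (x⁻¹ * z * x) * g := by group
        _ = z := by rw [hfix, this]
  have hiso : Cfsg.IsIsolatedInvolution z := by
    refine CfsgLib.Involutions.isolated_of_sylow P hzo fun g hg => ?_
    have := key {z} g⁻¹ (CfsgLib.Transfer.fusionChain P (A := {z}) (g := g⁻¹)
      (Set.singleton_subset_iff.mpr (SetLike.coe_mem (z0 : (P : Subgroup G))))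
      (fun a ha => by rw [Set.mem_singleton_iff] at ha; rw [ha, inv_inv]; exact hg)) rfl
    simpa using this
  haveI : (Cfsg.oddCore G).Normal := Cfsg.pPrimeCore_normal 2 G
  have hO : Cfsg.oddCore G = ⊥ :=
    (IsSimpleGroup.eq_bot_or_eq_top_of_normal _ inferInstance).resolve_right fun h =>
      (Nat.not_even_iff_odd.2 (CfsgLib.Base.oddCore_eq_top_iff.1 h)) (even_iff_two_dvd.2 h2)
  have hzC := CfsgLib.Involutions.ZStar.mem_center_of_oddCore_eq_bot hiso hO
  rcases IsSimpleGroup.eq_bot_or_eq_top_of_normal (center G) inferInstance with h | h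
  · rw [h, mem_bot] at hzC
    rw [hzC, orderOf_one] at hzo
    norm_num at hzo
  · exact hns (Group.isSolvable_of_comm fun a b => mem_center_iff.1 (h ▸ mem_top b) a)

omit [Finite G] in
/-- Iterated commutators of an inverted element. -/
theorem it_inverted {t r : G} (h : t * r * t⁻¹ = r⁻¹) :
    ∀ n : ℕ, it t r n = r ^ ((2 : ℤ) ^ n)
  | 0 => by simp [it]
  | n + 1 => by
    rw [it, it_inverted h n, commutatorElement_def, mul_assoc, mul_assoc, ← mul_assoc t,
      ← zpow_neg, ← conj_zpow, h, inv_zpow, ← zpow_neg, neg_neg, ← zpow_add]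
    ring_nf

/-- The elements of odd order of a nilpotent subgroup form a subgroup of odd order. -/
theorem exists_odd_part (L : Subgroup G) (hL : Group.IsNilpotent L) :
    ∃ X : Subgroup G, (Nat.card X).Coprime 2 ∧
      ∀ w, w ∈ X ↔ w ∈ L ∧ (orderOf w).Coprime 2 := by
  haveI : Fact (Nat.Prime 2) := ⟨Nat.prime_two⟩
  haveI := hL
  obtain ⟨P, N, hN, hNP⟩ :=
    CfsgLib.Transfer.hasNormalPComplement_of_isNilpotent (G := L) (p := 2)
  haveI := hN
  have hcard : (Nat.card N).Coprime 2 := by
    rw [Nat.coprime_comm, Nat.prime_two.coprime_iff_not_dvd, ← hNP.index_eq_card]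
    exact P.not_dvd_index
  obtain ⟨j, hj⟩ := P.isPGroup'.exists_card_eq
  refine ⟨N.map L.subtype, by rwa [card_map_of_injective L.subtype_injective], fun w => ⟨?_, ?_⟩⟩
  · rintro ⟨v, hv, rfl⟩
    exact ⟨v.2, hcard.of_dvd_left
      ((orderOf_injective _ L.subtype_injective v).dvd.trans (Subgroup.orderOf_dvd_natCard N hv))⟩
  · rintro ⟨hw, ho⟩
    refine ⟨⟨w, hw⟩, ?_, rfl⟩
    rw [← Subgroup.orderOf_mk w hw] at ho
    rw [SetLike.mem_coe, ← QuotientGroup.eq_one_iff, ← orderOf_eq_one_iff]
    refine Nat.eq_one_of_dvd_coprimes (ho.pow_right j)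
      (orderOf_map_dvd (QuotientGroup.mk' N) _) ?_
    refine (_root_.orderOf_dvd_natCard _).trans ?_
    rw [← Subgroup.index_eq_card, hNP.symm.index_eq_card, hj]

/-- A group with nilpotent lower central term is solvable. -/
theorem isSolvable_of_isNilpotent_lcs {G : Type u} [Group G]
    (h : Group.IsNilpotent ((⊤ : Subgroup G).lowerCentralSeries k)) : Group.IsSolvable G := by
  set L := (⊤ : Subgroup G).lowerCentralSeries k with hL
  haveI := h
  refine CfsgLib.Base.isSolvable_of_normal L inferInstance ?_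
  haveI : Group.IsNilpotent (G ⧸ L) := by
    refine Subgroup.nilpotent_iff_lowerCentralSeries.2 ⟨k, ?_⟩
    rw [← map_lcs _ (QuotientGroup.mk'_surjective L), ← hL, QuotientGroup.map_mk'_self]
  infer_instance

theorem isSolvable_of_proper (hK : CondK k G)
    (hsub : ∀ D : Subgroup G, D ≠ ⊤ →
      Group.IsNilpotent ((⊤ : Subgroup D).lowerCentralSeries k)) : Group.IsSolvable G := by
  classical
  by_contra hns
  haveI : Fact (Nat.Prime 2) := ⟨Nat.prime_two⟩
  haveI : Nontrivial G := by
    by_contra h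
    rw [not_nontrivial_iff_subsingleton] at h
    exact hns (Group.isSolvable_of_comm fun a b => Subsingleton.elim _ _)
  obtain ⟨N, ⟨hN, hNtop⟩, hmax⟩ := ((Set.toFinite {K : Subgroup G | K.Normal ∧ K ≠ ⊤})).exists_maximal
    ⟨⊥, inferInstance, bot_ne_top⟩
  haveI := hN
  set f := QuotientGroup.mk' N with hf
  have hfs : Function.Surjective f := QuotientGroup.mk'_surjective N
  haveI : Nontrivial (G ⧸ N) := QuotientGroup.nontrivial_iff.2 hNtop
  haveI : IsSimpleGroup (G ⧸ N) := ⟨fun W hW => by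
    have hWn : (W.comap f).Normal := hW.comap f
    have hle : N ≤ W.comap f := QuotientGroup.le_comap_mk' N W
    by_cases htop : W.comap f = ⊤
    · exact Or.inr (by rw [← map_comap_eq_self_of_surjective hfs W, htop, map_top_of_surjective f hfs])
    · refine Or.inl ?_
      rw [← map_comap_eq_self_of_surjective hfs W,
        le_antisymm (hmax ⟨hWn, htop⟩ hle) hle, hf, QuotientGroup.map_mk'_self]⟩
  have hnsq : ¬ Group.IsSolvable (G ⧸ N) := fun h => hns <|
    CfsgLib.Base.isSolvable_of_normal N (isSolvable_of_isNilpotent_lcs (hsub N hNtop)) h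
  obtain ⟨E, g, e, hE, hEsq, hgN, hgo, he, hnc⟩ := exists_moved_involution hnsq
  obtain ⟨Q, hQ, hQE, hlift⟩ := exists_lift f hfs hE
  obtain ⟨g', hgn, -, rfl⟩ := exists_lift_coprime f (hlift g hgN) hgo
  obtain ⟨a, ha, rfl⟩ := mem_map.1 (hQE.symm ▸ he : e ∈ Q.map f)
  -- an involutory value
  set t := it g' a (k - 1 + 1) with ht
  have htE : f t ∈ E := hQE ▸ mem_map_of_mem f (it_mem hgn ha _)
  have htt : f t * f t = 1 := hEsq _ htE
  have ht1 : f t ≠ 1 := by
    intro h
    obtain ⟨j, hj⟩ := hE.exists_card_eq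
    refine hnc (commute_of_it (X := E) (fun z hz => (mem_normalizer_iff.1 hgN z).1 hz)
      (by rw [hj]; exact (hgo.pow_right j).symm) he (k - 1) ?_)
    rw [← map_it]
    exact h
  obtain ⟨r, p, hp, hp2, hr, hinv⟩ :=
    CfsgLib.FgsB.exists_odd_prime_inverted_by (t := f t) (by rw [pow_two]; exact htt) (by
      intro W hW hWp htW
      rcases IsSimpleGroup.eq_bot_or_eq_top_of_normal W hW with h | h
      · exact ht1 (by rwa [h, mem_bot] at htW)
      · refine hnsq ?_
        subst h
        haveI := (hWp.of_equiv Subgroup.topEquiv).isNilpotent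
        infer_instance)
  set R := zpowers r with hR
  set D := (normalizer (R : Set (G ⧸ N))).comap f with hD
  have hrD : r ∈ normalizer (R : Set (G ⧸ N)) := le_normalizer (mem_zpowers r)
  have hDtop : D ≠ ⊤ := by
    intro h
    have h' : normalizer (R : Set (G ⧸ N)) = ⊤ := by
      rw [← map_comap_eq_self_of_surjective hfs (normalizer (R : Set (G ⧸ N))), ← hD, h,
        map_top_of_surjective f hfs]
    rcases IsSimpleGroup.eq_bot_or_eq_top_of_normal R (Subgroup.normalizer_eq_top_iff.1 h') with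
      hb | hb
    · rw [hR, zpowers_eq_bot] at hb
      rw [hb, orderOf_one] at hr
      exact hp.one_lt.ne hr
    · refine hnsq (Group.isSolvable_of_comm fun x y => ?_)
      rw [hR] at hb
      obtain ⟨i, rfl⟩ := mem_zpowers_iff.1 (hb.symm ▸ mem_top x : x ∈ zpowers r)
      obtain ⟨j, rfl⟩ := mem_zpowers_iff.1 (hb.symm ▸ mem_top y : y ∈ zpowers r)
      exact zpow_mul_comm r i j
  have htD : t ∈ D := by
    rw [hD, mem_comap]
    refine Subgroup.mem_normalizer_iff.2 fun x => ?_
    have hfwd : ∀ x ∈ R, f t * x * (f t)⁻¹ ∈ R := fun x hx => by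
      obtain ⟨i, rfl⟩ := mem_zpowers_iff.1 hx
      rw [← conj_zpow, hinv]
      exact zpow_mem (inv_mem (mem_zpowers r)) i
    refine ⟨hfwd x, fun hx => ?_⟩
    have := hfwd _ hx
    rwa [inv_eq_of_mul_eq_one_right htt,
      show f t * (f t * x * f t) * f t = f t * f t * x * (f t * f t) by group, htt,
      one_mul, mul_one] at this
  obtain ⟨r', rfl⟩ := hfs r
  have hrD' : r' ∈ D := hrD
  set L := ((⊤ : Subgroup D).lowerCentralSeries k).map D.subtype with hL
  have hLn : Group.IsNilpotent L :=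
    (Group.isNilpotent_congr (Subgroup.equivMapOfInjective _ _ D.subtype_injective)).1
      (hsub D hDtop)
  set b := it t r' k with hb
  have hbL : b ∈ L :=
    ⟨it ⟨t, htD⟩ ⟨r', hrD'⟩ k, val_mem_lcs k _ (val_it _ _ k), map_it D.subtype _ _ k⟩
  have hfb : f b = f r' ^ ((2 : ℤ) ^ k) := by
    rw [hb, map_it]
    exact it_inverted hinv k
  have hbo : (orderOf (f b)).Coprime 2 := by
    refine Nat.Coprime.coprime_dvd_left ?_ ((Nat.coprime_primes hp Nat.prime_two).2 hp2)
    rw [hfb, ← hr]
    exact orderOf_dvd_of_mem_zpowers (zpow_mem (mem_zpowers _) _)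
  obtain ⟨n, hn, hno⟩ := exists_pow_coprime f hbo
  obtain ⟨X, hX, hXmem⟩ := exists_odd_part L hLn
  obtain ⟨j, hj⟩ := IsPGroup.iff_orderOf.1 hQ ⟨t, it_mem hgn ha _⟩
  rw [Subgroup.orderOf_mk] at hj
  have hcomm := hK t (ht ▸ val_it_pred g' a k) X (fun x hx => by
      obtain ⟨hxL, hxo⟩ := (hXmem x).1 hx
      obtain ⟨v, hv, rfl⟩ := hxL
      refine (hXmem _).2 ⟨⟨⟨t, htD⟩ * v * ⟨t, htD⟩⁻¹,
        (inferInstance : ((⊤ : Subgroup D).lowerCentralSeries k).Normal).conj_mem v hv _, rfl⟩, ?_⟩
      rwa [← MulAut.conj_apply, MulEquiv.orderOf_eq])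
    (by rw [hj]; exact hX.pow_right j) (b ^ n) ((hXmem _).2 ⟨pow_mem hbL n, hno⟩)
  have hcm : Commute (f b) (f t) := hn ▸ hcomm.map f
  -- an element both centralised and inverted
  have h1 : f r' ^ ((2 : ℤ) ^ k) = (f r' ^ ((2 : ℤ) ^ k))⁻¹ := by
    rw [← inv_zpow, ← hinv, conj_zpow, ← hfb]
    rw [← hcm.eq, mul_inv_cancel_right]
  rw [← zpow_neg, zpow_eq_zpow_iff_modEq, hr, Int.modEq_iff_dvd] at h1
  have h2 : (p : ℤ) ∣ (2 : ℤ) ^ (k + 1) := by
    obtain ⟨c, hc⟩ := h1
    exact ⟨-c, by rw [pow_succ]; linarith⟩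
  exact hp2 ((Nat.prime_dvd_prime_iff_eq hp Nat.prime_two).1
    (hp.dvd_of_dvd_pow (by exact_mod_cast h2 : p ∣ 2 ^ (k + 1))))

theorem isNilpotent_lcs_aux : ∀ (n : ℕ) (G : Type u) [Group G] [Finite G],
    Nat.card G = n → CondK k G → Group.IsNilpotent ((⊤ : Subgroup G).lowerCentralSeries k) := by
  intro n
  induction n using Nat.strong_induction_on with
  | _ n ih =>
    intro G _ _ hn hK
    refine isNilpotent_lcs_of_isSolvable hK (isSolvable_of_proper hK fun D hD => ?_)
    refine ih (Nat.card D) ?_ D rfl (hK.subgroup D)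
    rw [← hn]
    exact lt_of_le_of_ne (Nat.le_of_dvd Nat.card_pos (card_subgroup_dvd_card D))
      fun h => hD (eq_top_of_card_eq _ h)

theorem isNilpotent_lcs_of_condK (hK : CondK k G) :
    Group.IsNilpotent ((⊤ : Subgroup G).lowerCentralSeries k) :=
  isNilpotent_lcs_aux _ G rfl hK

/-- The values as left folds. -/
theorem val_iff_foldl {G : Type*} [Group G] : ∀ (n : ℕ) (x : G), Val n x ↔
    ∃ f : Fin (n + 1) → G, x = ((List.ofFn f).tail).foldl (fun a b => a * b * a⁻¹ * b⁻¹) (f 0)
  | 0, x => ⟨fun _ => ⟨fun _ => x, by simp⟩, fun _ => trivial⟩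
  | n + 1, x => by
    have step : ∀ f : Fin (n + 2) → G,
        ((List.ofFn f).tail).foldl (fun a b => a * b * a⁻¹ * b⁻¹) (f 0) =
          ⁅((List.ofFn fun i => f (Fin.castSucc i)).tail).foldl
            (fun a b => a * b * a⁻¹ * b⁻¹) (f 0), f (Fin.last (n + 1))⁆ := by
      intro f
      rw [List.ofFn_succ, List.ofFn_succ (f := fun i => f (Fin.castSucc i)), List.tail_cons,
        List.tail_cons, List.ofFn_succ', List.concat_eq_append, List.foldl_append,
        List.foldl_cons, List.foldl_nil, commutatorElement_def]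
      simp only [Fin.succ_last, Fin.succ_castSucc]
    constructor
    · rintro ⟨a, b, ha, rfl⟩
      obtain ⟨f, rfl⟩ := (val_iff_foldl n a).1 ha
      refine ⟨Fin.snoc f b, ?_⟩
      have h0 : (Fin.snoc f b : Fin (n + 2) → G) 0 = f 0 :=
        Fin.snoc_castSucc (α := fun _ => G) b f 0
      rw [step, h0]
      simp only [Fin.snoc_castSucc, Fin.snoc_last]
    · rintro ⟨f, rfl⟩
      refine ⟨_, f (Fin.last (n + 1)), (val_iff_foldl n _).2 ⟨fun i => f (Fin.castSucc i), rfl⟩, ?_⟩
      exact step f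

end CfsgLib.FgsC.GammaValues
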