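import Cfsg.Agent.Lib.FgsC.GammaValues.Basic
import Cfsg.Agent.Lib.Transfer.Alperin
import Cfsg.Agent.Lib.Base.MinimalNormal
import Cfsg.Agent.Lib.Base.Cores

/-!
# `CondK` forces a nilpotent lower central term in solvable groups
-/

set_option autoImplicit false
set_option linter.style.haveILetI false

open Subgroup
open scoped commutatorElement

universe u

namespace CfsgLib.FgsC.GammaValues

variable {k : ℕ}

/-- If prime-to-`l` prime power values die in `J` and `O_l(J) = 1`, the lower central term dies. -/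
theorem lcs_eq_bot_of_kill {M J : Type u} [Group M] [Group J] [Finite M] [Finite J]
    (π : M →* J) (hπ : Function.Surjective π) {l : ℕ} (hl : l.Prime)
    (hO : Cfsg.pCore l J = ⊥)
    (hkill : ∀ q : ℕ, q.Prime → q ≠ l → ∀ y : M, Val k y → (∃ e, orderOf y = q ^ e) → π y = 1) :
    (⊤ : Subgroup J).lowerCentralSeries k = ⊥ := by
  haveI := Fact.mk hl
  suffices h : IsPGroup l ((⊤ : Subgroup J).lowerCentralSeries k) from
    le_bot_iff.1 ((CfsgLib.Base.le_pCore h).trans hO.le)
  rw [IsPGroup.iff_orderOf]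
  intro x
  by_contra hx
  obtain ⟨q, hq, hqx, hql⟩ : ∃ q, q.Prime ∧ q ∣ orderOf x ∧ q ≠ l := by
    by_contra hne
    push Not at hne
    exact hx ⟨_, Nat.eq_prime_pow_of_unique_prime_dvd (orderOf_pos x).ne'
      fun {d} hd hdd => hne d hd hdd⟩
  haveI := Fact.mk hq
  have hc : ∀ Q : Subgroup J, IsPGroup q Q → ∀ g ∈ normalizer (Q : Set J),
      (orderOf g).Coprime q → g ∈ centralizer (Q : Set J) := by
    intro Q hQ g hg hgo
    obtain ⟨P, hP, hPQ, hlift⟩ := exists_lift π hπ hQ
    obtain ⟨g', hn, -, rfl⟩ := exists_lift_coprime π (hlift g hg) hgo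
    rw [mem_centralizer_iff]
    intro h hh
    rw [← hPQ] at hh
    obtain ⟨a, ha, rfl⟩ := hh
    obtain ⟨e, he⟩ := hQ.exists_card_eq
    refine (commute_of_it (X := Q) (fun z hz => (mem_normalizer_iff.1 hg z).1 hz)
      (by rw [he]; exact (hgo.pow_right e).symm) (hPQ ▸ mem_map_of_mem π ha) (k - 1) ?_).eq
    rw [← map_it]
    refine hkill q hq hql _ (val_it_pred g' a k) ?_
    obtain ⟨j, hj⟩ := IsPGroup.iff_orderOf.1 hP ⟨_, it_mem hn ha (k - 1 + 1)⟩
    exact ⟨j, by rwa [Subgroup.orderOf_mk] at hj⟩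
  obtain ⟨P0⟩ := (inferInstance : Nonempty (Sylow q J))
  obtain ⟨P, N, hN, hNP⟩ := (CfsgLib.Transfer.hasNormalPComplement_iff_forall_centralizing P0).2
    fun Q hQ g hg hgo => hc Q (P0.isPGroup'.to_le hQ) g hg hgo
  haveI := hN
  have hbot : (⊤ : Subgroup (P : Subgroup J)).lowerCentralSeries k = ⊥ := by
    refine lcs_eq_bot_of_val fun v hv => ?_
    obtain ⟨P', hP', hP'Q, -⟩ := exists_lift π hπ P.isPGroup'
    let φ : P' →* (P : Subgroup J) :=
      (π.comp P'.subtype).codRestrict _ fun w => hP'Q ▸ mem_map_of_mem π w.2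
    have hφ : Function.Surjective φ := fun w => by
      obtain ⟨z, hz, hzw⟩ := mem_map.1 (hP'Q.symm ▸ w.2 : (w : J) ∈ P'.map π)
      exact ⟨⟨z, hz⟩, Subtype.ext hzw⟩
    obtain ⟨w, hw, rfl⟩ := val_lift φ hφ k v hv
    obtain ⟨j, hj⟩ := IsPGroup.iff_orderOf.1 hP' w
    exact Subtype.ext (hkill q hq hql _ (val_map P'.subtype k w hw)
      ⟨j, by rw [← hj]; exact Subgroup.orderOf_coe w⟩)
  let ψ : (P : Subgroup J) →* J ⧸ N := (QuotientGroup.mk' N).comp (P : Subgroup J).subtype
  have hψ : Function.Surjective ψ := fun z => by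
    obtain ⟨z, rfl⟩ := QuotientGroup.mk'_surjective N z
    obtain ⟨n, hn, p, hp, rfl⟩ := mem_sup_of_normal_left.1
      (hNP.sup_eq_top ▸ mem_top z : z ∈ N ⊔ (P : Subgroup J))
    refine ⟨⟨p, hp⟩, ?_⟩
    show QuotientGroup.mk' N p = QuotientGroup.mk' N (n * p)
    rw [map_mul, show QuotientGroup.mk' N n = 1 from (QuotientGroup.eq_one_iff n).2 hn, one_mul]
  have hxN : (x : J) ∈ N := by
    rw [← QuotientGroup.eq_one_iff, ← mem_bot,
      ← (show ((⊤ : Subgroup (J ⧸ N)).lowerCentralSeries k) = ⊥ by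
        rw [← map_lcs ψ hψ, hbot, Subgroup.map_bot]),
      ← map_lcs _ (QuotientGroup.mk'_surjective N)]
    exact mem_map_of_mem _ x.2
  refine P.not_dvd_index ?_
  rw [← Subgroup.orderOf_coe x] at hqx
  rw [hNP.index_eq_card]
  exact hqx.trans (Subgroup.orderOf_dvd_natCard N hxN)

/-- Normal `l`-subgroups of the group induced on a minimal normal `l`-subgroup are trivial. -/
theorem pCore_quotient_centralizer {H : Type u} [Group H] [Finite H] {l : ℕ} [hl : Fact l.Prime]
    {V : Subgroup H} (hV : CfsgLib.Base.IsMinimalNormal V) (hVl : IsPGroup l V)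
    [(centralizer (V : Set H)).Normal] :
    Cfsg.pCore l (H ⧸ centralizer (V : Set H)) = ⊥ := by
  haveI := hV.normal
  set C := centralizer (V : Set H) with hC
  set D := (Cfsg.pCore l (H ⧸ C)).comap (QuotientGroup.mk' C) with hD
  suffices hDC : D ≤ C by
    rw [eq_bot_iff]
    intro x hx
    obtain ⟨d, rfl⟩ := QuotientGroup.mk'_surjective C x
    exact (QuotientGroup.eq_one_iff d).2 (hDC hx)
  haveI : (Cfsg.pCore l (H ⧸ C)).Normal := inferInstance
  haveI hDn : D.Normal := Normal.comap inferInstance _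
  let φ : D →* MulAut V := (MulAut.conjNormal (H := V)).comp D.subtype
  have hA : IsPGroup l φ.range := by
    rintro ⟨_, d, rfl⟩
    obtain ⟨j, hj⟩ := CfsgLib.Base.isPGroup_pCore l (H ⧸ C) ⟨QuotientGroup.mk' C d, d.2⟩
    refine ⟨j, Subtype.ext ?_⟩
    have hdC : (d : H) ^ l ^ j ∈ C :=
      (QuotientGroup.eq_one_iff _).1 (congrArg Subtype.val hj :)
    show φ d ^ l ^ j = 1
    rw [← map_pow]
    refine MulEquiv.ext fun v => Subtype.ext ?_
    show ((d ^ l ^ j : D) : H) * v * ((d ^ l ^ j : D) : H)⁻¹ = v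
    rw [SubmonoidClass.coe_pow, ← (mem_centralizer_iff.1 hdC _ v.2 :), mul_inv_cancel_right]
  obtain ⟨n, hn⟩ := hVl.exists_card_eq
  have hdvd : l ∣ Nat.card V := by
    rw [hn]
    refine dvd_pow_self l fun h0 => hV.ne_bot (V.eq_bot_of_card_eq ?_)
    rw [hn, h0, pow_zero]
  have h1 : (1 : V) ∈ MulAction.fixedPoints φ.range V := fun a => map_one (a : MulAut V)
  obtain ⟨v, hv, hv1⟩ := hA.exists_fixed_point_of_prime_dvd_card_of_fixed_point V hdvd h1
  have hvF : (v : H) ∈ V ⊓ centralizer (D : Set H) :=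
    ⟨v.2, mem_centralizer_iff.2 fun d hd => by
      have := congrArg Subtype.val (hv ⟨φ ⟨d, hd⟩, ⟨d, hd⟩, rfl⟩)
      exact mul_inv_eq_iff_eq_mul.1 this⟩
  rcases hV.eq_bot_or_eq (K := V ⊓ centralizer (D : Set H)) inferInstance inf_le_left with h | h
  · exact absurd (Subtype.ext (mem_bot.1 (h ▸ hvF)).symm) hv1
  · intro d hd
    exact mem_centralizer_iff.2 fun w hw =>
      (mem_centralizer_iff.1 (h.symm ▸ hw : w ∈ V ⊓ centralizer (D : Set H)).2 d hd).symm

variable {G : Type u} [Group G] [Finite G]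

/-- The chief factor step. -/
theorem lcs_le_centralizer (hK : CondK k G) {H : Type u} [Group H] (f : G →* H)
    (hf : Function.Surjective f) {l : ℕ} (hl : l.Prime) {V : Subgroup H}
    (hV : CfsgLib.Base.IsMinimalNormal V) (hVl : IsPGroup l V) :
    (⊤ : Subgroup H).lowerCentralSeries k ≤ centralizer (V : Set H) := by
  haveI := Fact.mk hl
  haveI : Finite H := Finite.of_surjective f hf
  haveI := hV.normal
  haveI : (centralizer (V : Set H)).Normal := inferInstance
  obtain ⟨V1, hV1, hV1V, hlift⟩ := exists_lift f hf hVl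
  set M := normalizer (V1 : Set G) with hM
  let π : M →* H ⧸ centralizer (V : Set H) :=
    (QuotientGroup.mk' (centralizer (V : Set H))).comp (f.comp M.subtype)
  have hπ : Function.Surjective π := fun z => by
    obtain ⟨z, rfl⟩ := QuotientGroup.mk'_surjective _ z
    obtain ⟨g, hg, rfl⟩ := hlift z (by rw [Subgroup.normalizer_eq_top]; exact mem_top _)
    exact ⟨⟨g, hg⟩, rfl⟩
  have hJ := lcs_eq_bot_of_kill (k := k) π hπ hl (pCore_quotient_centralizer hV hVl) ?_
  · intro x hx
    have h := mem_map_of_mem (QuotientGroup.mk' (centralizer (V : Set H))) hx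
    rw [map_lcs _ (QuotientGroup.mk'_surjective _), hJ, mem_bot] at h
    exact (QuotientGroup.eq_one_iff x).1 h
  · rintro q hq hql y hy ⟨e, he⟩
    obtain ⟨n, hn⟩ := hV1.exists_card_eq
    have hcomm := hK (y : G) (val_map M.subtype k y hy) V1
      (fun z hz => (mem_normalizer_iff.1 y.2 z).1 hz)
      (by rw [Subgroup.orderOf_coe, hn, he]
          exact (Nat.coprime_primes hl hq).2 (Ne.symm hql) |>.pow _ _)
    refine (QuotientGroup.eq_one_iff _).2 (mem_centralizer_iff.2 fun w hw => ?_)
    rw [← hV1V] at hw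
    obtain ⟨v, hv, rfl⟩ := hw
    exact ((hcomm v hv).map f).eq

/-- In a solvable group `CondK` makes the lower central term of every image nilpotent. -/
theorem isNilpotent_lcs_image (hK : CondK k G) (hsol : Group.IsSolvable G) :
    ∀ (n : ℕ) (H : Type u) [Group H] (f : G →* H), Function.Surjective f → Nat.card H = n →
      Group.IsNilpotent ((⊤ : Subgroup H).lowerCentralSeries k) := by
  intro n
  induction n using Nat.strong_induction_on with
  | _ n ih =>
    intro H _ f hf hn
    haveI : Finite H := Finite.of_surjective f hf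
    by_cases hH : Subsingleton H
    · exact inferInstance
    rw [not_subsingleton_iff_nontrivial] at hH
    haveI : Group.IsSolvable H := Group.isSolvable_of_surjective hf
    obtain ⟨V, hV⟩ := CfsgLib.Base.exists_isMinimalNormal (G := H)
    haveI := hV.normal
    obtain ⟨l, hl, -, -, hVl⟩ := hV.exists_prime inferInstance
    have hlt : Nat.card (H ⧸ V) < n := by
      rw [← hn, Subgroup.card_eq_card_quotient_mul_card_subgroup V]
      exact lt_mul_of_one_lt_right Nat.card_pos (by
        rw [Subgroup.one_lt_card_iff_ne_bot]; exact hV.ne_bot)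
    have := ih _ hlt (H ⧸ V) ((QuotientGroup.mk' V).comp f)
      ((QuotientGroup.mk'_surjective V).comp hf) rfl
    have hcen := lcs_le_centralizer hK f hf hl hV hVl
    let g : (⊤ : Subgroup H).lowerCentralSeries k →*
        (⊤ : Subgroup (H ⧸ V)).lowerCentralSeries k :=
      ((QuotientGroup.mk' V).comp (Subgroup.subtype _)).codRestrict _ fun x => by
        rw [← map_lcs _ (QuotientGroup.mk'_surjective V)]
        exact mem_map_of_mem _ x.2
    refine Subgroup.isNilpotent_of_ker_le_center g (fun x hx => mem_center_iff.2 fun y => ?_)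
    have hxV : (x : H) ∈ V := (QuotientGroup.eq_one_iff _).1 (congrArg Subtype.val hx :)
    exact Subtype.ext ((mem_centralizer_iff.1 (hcen y.2) _ hxV).symm)

theorem isNilpotent_lcs_of_isSolvable (hK : CondK k G) (hsol : Group.IsSolvable G) :
    Group.IsNilpotent ((⊤ : Subgroup G).lowerCentralSeries k) :=
  isNilpotent_lcs_image hK hsol _ G (MonoidHom.id G) Function.surjective_id rfl

end CfsgLib.FgsC.GammaValues
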